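import Cfsg.Agent.H981.Inv.HN
import Cfsg.Agent.H285.Gen.HNW1
import Cfsg.Agent.H285.Gen.HNW1b
import Cfsg.Agent.H285.Gen.HNW2
import Cfsg.Agent.H285.Gen.HNW2b

/-!
# S4327, `HN`: elements of order 5 (helper285)

The reduction of helper981 (`H981/Inv/HN.lean`) to `A`, `D`, `C₁`, `B D²`, `A D²`, `W ^ m F` with the predicate `K3 19`.
-/

set_option autoImplicit false
set_option maxRecDepth 100000

namespace Cfsg.Agent.H285.Gen.HN

open Subgroup Cfsg Cfsg.Agent.H839.Rad.Ext Cfsg.Agent.HN Cfsg.Agent.H981.InvHN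
open Cfsg.Agent.H839.Rad.HN (W A B C₁ D F τ k ext e_fa1 e_fb1 e_fa2 e_fb2 FW e_taua1 e_taub1 e_taua2 e_taub2 e_tauw
  e_ka1 e_kb1 e_ka2 e_kb2 e_kw F_Q A_eq F_eq e_b25 W_ne center_HN e_w5)

/-! ### the predicate -/

/-- `x` is not an element of order 5 or three conjugates generate a subgroup of order divisible by 19 -/
def T5 (x : Spor.HN) : Prop := x ^ 5 = 1 → K3 19 x

theorem T5.of_pow {x : Spor.HN} (n : ℕ) (h : T5 (x ^ n)) : T5 x := fun hx =>
  K3.of_pow n (h (by rw [← pow_mul, mul_comm, pow_mul, hx, one_pow]))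

theorem T5.of_conj {x : Spor.HN} (t : Spor.HN) (h : T5 (t * x * t⁻¹)) : T5 x := fun hx =>
  K3.of_conj t (h (by rw [conj_pow, hx, mul_one, mul_inv_cancel]))

/-- conjugation -/
theorem step_conj {g : Spor.HN} (hW : g * W = W * g)
    {a0 a1 a2 a3 b0 b1 b2 b3 c0 c1 c2 c3 e0 e1 e2 e3 : ℕ} {a4 b4 c4 e4 : ℤ}
    (hA : g * A = nf W A B C₁ D a0 a1 a2 a3 a4 * g) (hB : g * B = nf W A B C₁ D b0 b1 b2 b3 b4 * g)
    (hC : g * C₁ = nf W A B C₁ D c0 c1 c2 c3 c4 * g) (hD : g * D = nf W A B C₁ D e0 e1 e2 e3 e4 * g) {v : ℕ}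
    (h : ∀ m, T5 (nv (en (d0 v * a0 + d1 v * b0 + d2 v * c0 + d3 v * e0) (d0 v * a1 + d1 v * b1 + d2 v * c1 + d3 v * e1)
      (d0 v * a2 + d1 v * b2 + d2 v * c2 + d3 v * e2) (d0 v * a3 + d1 v * b3 + d2 v * c3 + d3 v * e3)) m)) :
    ∀ m, T5 (nv v m) := by
  intro m
  apply T5.of_conj g
  obtain ⟨m', hm⟩ := conj_nf hW hA hB hC hD (d0 v) (d1 v) (d2 v) (d3 v) m
  rw [nv, hm]
  have h1 := h m'
  rw [← nf_en] at h1
  push_cast at h1
  exact h1

theorem move1 (g v : ℕ) (h : ∀ m, T5 (nv (mv1 g v) m)) : ∀ m, T5 (nv v m) := by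
  rcases g with _ | _ | _ | g
  · refine step_conj FW (by exact_mod_cast e_fa1) (by exact_mod_cast e_fb1) (by exact_mod_cast e_fa2)
      (by exact_mod_cast e_fb2) fun m => ?_
    refine Eq.mp ?_ (h m)
    congr 2
    exact en_congr (by ring) (by ring) (by ring) (by ring)
  · refine step_conj e_tauw (by exact_mod_cast e_taua1) (by exact_mod_cast e_taub1) (by exact_mod_cast e_taua2)
      (by exact_mod_cast e_taub2) fun m => ?_
    refine Eq.mp ?_ (h m)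
    congr 2
    exact en_congr (by ring) (by ring) (by ring) (by ring)
  · refine step_conj e_kw (by exact_mod_cast e_ka1) (by exact_mod_cast e_kb1) (by exact_mod_cast e_ka2)
      (by exact_mod_cast e_kb2) fun m => ?_
    refine Eq.mp ?_ (h m)
    congr 2
    exact en_congr (by ring) (by ring) (by ring) (by ring)
  · intro m
    apply T5.of_pow 2
    obtain ⟨e, -, h1⟩ := ext.nf_pow (d0 v) (d1 v) (d2 v) (d3 v) m 2
    rw [nv, h1]
    have h2 : mv1 (g + 3) v = en (2 * d0 v) (2 * d1 v) (2 * d2 v) (2 * d3 v) := rfl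
    have h3 := h (((2 : ℕ) : ℤ) * m - e * ((d0 v : ℤ) * (d1 v : ℤ) + (d2 v : ℤ) * (d3 v : ℤ)))
    rw [h2, ← nf_en] at h3
    push_cast at h3 ⊢
    exact h3

/-! ### the words -/

theorem wd_cons (a : ℕ) (w : List ℕ) : wd (a :: w) = gens4.getD a 1 * wd w := rfl
theorem wd_nil : wd [] = 1 := rfl

theorem g6 : gens4.getD 6 1 = W := by
  simp only [gens4, gens2, List.cons_append, List.nil_append, List.getD_cons_succ, List.getD_cons_zero]
theorem g7 : gens4.getD 7 1 = A := by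
  simp only [gens4, gens2, List.cons_append, List.nil_append, List.getD_cons_succ, List.getD_cons_zero]
theorem g8 : gens4.getD 8 1 = B := by
  simp only [gens4, gens2, List.cons_append, List.nil_append, List.getD_cons_succ, List.getD_cons_zero]
theorem g9 : gens4.getD 9 1 = C₁ := by
  simp only [gens4, gens2, List.cons_append, List.nil_append, List.getD_cons_succ, List.getD_cons_zero]
theorem g10 : gens4.getD 10 1 = D := by
  simp only [gens4, gens2, List.cons_append, List.nil_append, List.getD_cons_succ, List.getD_cons_zero]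
theorem g11 : gens4.getD 11 1 = F := by
  simp only [gens4, gens2, List.cons_append, List.nil_append, List.getD_cons_succ, List.getD_cons_zero]

theorem t_A : T5 A := fun _ => by
  simpa only [wd_cons, wd_nil, g7, mul_one] using k_A5

theorem t_D : T5 D := fun _ => by
  simpa only [wd_cons, wd_nil, g10, mul_one] using k_D5

theorem t_C : T5 C₁ := fun _ => by
  simpa only [wd_cons, wd_nil, g9, mul_one] using k_C5

theorem t_B : T5 (B * (D * D)) := fun _ => by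
  simpa only [wd_cons, wd_nil, g8, g10, mul_one] using k_BDD5

theorem t_E : T5 (A * (D * D)) := fun _ => by
  simpa only [wd_cons, wd_nil, g7, g10, mul_one] using k_ADD5

theorem t_F0 : T5 F := fun _ => by
  simpa only [wd_cons, wd_nil, g11, mul_one] using k_F5_0

theorem t_F1 : T5 (W * F) := fun _ => by
  simpa only [wd_cons, wd_nil, g6, g11, mul_one] using k_F5_1

theorem t_F2 : T5 (W * W * F) := fun _ => by
  simpa only [wd_cons, wd_nil, g6, g11, mul_one, mul_assoc] using k_F5_2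

theorem t_F3 : T5 (W * (W * W) * F) := fun _ => by
  simpa only [wd_cons, wd_nil, g6, g11, mul_one, mul_assoc] using k_F5_3

theorem t_F4 : T5 (W * (W * (W * W)) * F) := fun _ => by
  simpa only [wd_cons, wd_nil, g6, g11, mul_one, mul_assoc] using k_F5_4

/-! ### `Q` -/

/-- the central part of a normal form can be changed by conjugation -/
theorem rep_all {r0 r1 r2 r3 : ℤ} (s0 s1 s2 s3 : ℤ) (hω : s0 * r1 - r0 * s1 + s2 * r3 - r2 * s3 = 1)
    (h : T5 (nf W A B C₁ D r0 r1 r2 r3 0)) (m : ℤ) : T5 (nf W A B C₁ D r0 r1 r2 r3 m) := by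
  apply T5.of_conj (nf W A B C₁ D (-m * s0) (-m * s1) (-m * s2) (-m * s3) 0)
  rw [ext.nf_mul_comm, mul_assoc (W ^ _), mul_inv_cancel_right]
  have h1 : -m * s0 * r1 - r0 * (-m * s1) + -m * s2 * r3 - r2 * (-m * s3) = -m := by
    linear_combination (-m) * hω
  rw [h1]
  have h2 : W ^ (-m) = nf W A B C₁ D 0 0 0 0 (-m) := by simp [nf]
  rw [h2, ext.nf_mul]
  have h3 : nf W A B C₁ D (0 + r0) (0 + r1) (0 + r2) (0 + r3) (-m + m - r0 * 0 - r2 * 0) =
      nf W A B C₁ D r0 r1 r2 r3 0 := by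
    congr 1 <;> ring
  rw [h3]
  exact h

theorem goodQ : ∀ v < 625, v ≠ 0 → ∀ m, T5 (nv v m) := by
  intro v hv h0
  refine all_of_rank (P := fun v => ∀ m, T5 (nv v m)) chk1 move1 ?_ _ v (Nat.lt_succ_self _) hv (fun _ => h0)
  intro v hv m
  simp only [List.mem_cons, List.not_mem_nil, or_false] at hv
  rcases hv with rfl | rfl | rfl | rfl | rfl
  · refine rep_all (r0 := ((d0 1 : ℕ) : ℤ)) (r1 := ((d1 1 : ℕ) : ℤ)) (r2 := ((d2 1 : ℕ) : ℤ)) (r3 := ((d3 1 : ℕ) : ℤ))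
      0 (-1) 0 0 (by decide) ?_ m
    have h : nf W A B C₁ D ((d0 1 : ℕ) : ℤ) ((d1 1 : ℕ) : ℤ) ((d2 1 : ℕ) : ℤ) ((d3 1 : ℕ) : ℤ) 0 = A := by
      simp [nf, d0e, d1e, d2e, d3e]
    rw [h]
    exact t_A
  · refine rep_all (r0 := ((d0 125 : ℕ) : ℤ)) (r1 := ((d1 125 : ℕ) : ℤ)) (r2 := ((d2 125 : ℕ) : ℤ))
      (r3 := ((d3 125 : ℕ) : ℤ)) 0 0 1 0 (by decide) ?_ m
    have h : nf W A B C₁ D ((d0 125 : ℕ) : ℤ) ((d1 125 : ℕ) : ℤ) ((d2 125 : ℕ) : ℤ) ((d3 125 : ℕ) : ℤ) 0 = D := by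
      simp [nf, d0e, d1e, d2e, d3e]
    rw [h]
    exact t_D
  · refine rep_all (r0 := ((d0 25 : ℕ) : ℤ)) (r1 := ((d1 25 : ℕ) : ℤ)) (r2 := ((d2 25 : ℕ) : ℤ))
      (r3 := ((d3 25 : ℕ) : ℤ)) 0 0 0 (-1) (by decide) ?_ m
    have h : nf W A B C₁ D ((d0 25 : ℕ) : ℤ) ((d1 25 : ℕ) : ℤ) ((d2 25 : ℕ) : ℤ) ((d3 25 : ℕ) : ℤ) 0 = C₁ := by
      simp [nf, d0e, d1e, d2e, d3e]
    rw [h]
    exact t_C
  · refine rep_all (r0 := ((d0 255 : ℕ) : ℤ)) (r1 := ((d1 255 : ℕ) : ℤ)) (r2 := ((d2 255 : ℕ) : ℤ))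
      (r3 := ((d3 255 : ℕ) : ℤ)) 1 0 0 0 (by decide) ?_ m
    have h : nf W A B C₁ D ((d0 255 : ℕ) : ℤ) ((d1 255 : ℕ) : ℤ) ((d2 255 : ℕ) : ℤ) ((d3 255 : ℕ) : ℤ) 0 =
        B * (D * D) := by
      simp [nf, d0e, d1e, d2e, d3e, pow_two]
    rw [h]
    exact t_B
  · refine rep_all (r0 := ((d0 251 : ℕ) : ℤ)) (r1 := ((d1 251 : ℕ) : ℤ)) (r2 := ((d2 251 : ℕ) : ℤ))
      (r3 := ((d3 251 : ℕ) : ℤ)) 0 (-1) 0 0 (by decide) ?_ m
    have h : nf W A B C₁ D ((d0 251 : ℕ) : ℤ) ((d1 251 : ℕ) : ℤ) ((d2 251 : ℕ) : ℤ) ((d3 251 : ℕ) : ℤ) 0 =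
        A * (D * D) := by
      simp [nf, d0e, d1e, d2e, d3e, pow_two]
    rw [h]
    exact t_E

theorem goodW : T5 W := by
  have h1 : W = Cfsg.Agent.H839.Rad.HN.G * A * Cfsg.Agent.H839.Rad.HN.G⁻¹ := by rw [A_eq]; group
  apply T5.of_conj Cfsg.Agent.H839.Rad.HN.G⁻¹
  rw [inv_inv, ← A_eq]
  exact t_A

/-! ### the coset of `F` -/

theorem move2 (g v : ℕ) (h : ∀ m, T5 (nv (mv2 g v) m * F)) : ∀ m, T5 (nv v m * F) := by
  intro m
  have key : ∀ (s : Spor.HN) (a0 a1 a2 a3 a4 s0 s1 s2 s3 : ℤ) (c0 c1 c2 c3 : ℕ),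
      s⁻¹ = nf W A B C₁ D s0 s1 s2 s3 0 → F * s = nf W A B C₁ D a0 a1 a2 a3 a4 * F →
      (5 : ℤ) ∣ s0 + a0 - c0 → (5 : ℤ) ∣ s1 + a1 - c1 → (5 : ℤ) ∣ s2 + a2 - c2 → (5 : ℤ) ∣ s3 + a3 - c3 →
      (∀ m, T5 (nv (en (d0 v + c0) (d1 v + c1) (d2 v + c2) (d3 v + c3)) m * F)) → T5 (nv v m * F) := by
    intro s a0 a1 a2 a3 a4 s0 s1 s2 s3 c0 c1 c2 c3 hs hF h0 h1 h2 h3 hv
    apply T5.of_conj s⁻¹
    obtain ⟨m', hm⟩ := step_F hs hF (d0 v) (d1 v) (d2 v) (d3 v) m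
    rw [nv, hm]
    have h4 := hv m'
    rw [← nf_en] at h4
    rw [nf_mod (i' := ((d0 v + c0 : ℕ) : ℤ)) (j' := ((d1 v + c1 : ℕ) : ℤ)) (u' := ((d2 v + c2 : ℕ) : ℤ))
      (l' := ((d3 v + c3 : ℕ) : ℤ)) (by push_cast; omega) (by push_cast; omega) (by push_cast; omega)
      (by push_cast; omega)]
    exact h4
  rcases g with _ | _ | _ | g
  · exact key A _ _ _ _ _ (-1) 0 0 0 4 0 4 4 (by simp [nf]) e_fa1 (by norm_num) (by norm_num) (by norm_num) (by norm_num)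
      h
  · exact key B _ _ _ _ _ 0 (-1) 0 0 0 0 0 4 (by simp [nf]) e_fb1 (by norm_num) (by norm_num) (by norm_num) (by norm_num)
      h
  · exact key C₁ _ _ _ _ _ 0 0 (-1) 0 4 1 3 4 (by simp [nf]) e_fa2 (by norm_num) (by norm_num) (by norm_num)
      (by norm_num) h
  · exact key D _ _ _ _ _ 0 0 0 (-1) 4 0 4 3 (by simp [nf]) e_fb2 (by norm_num) (by norm_num) (by norm_num) (by norm_num)
      h

/-- the elements of order 25 -/
theorem t5_c {u : ℕ} (h : (C₁ ^ u * F) ^ 5 ≠ 1) (m : ℤ) : T5 (nf W A B C₁ D 0 0 u 0 m * F) := by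
  intro h1
  exfalso
  apply h
  have cF : Commute (W ^ m) F := (show Commute W F from FW.symm).zpow_left m
  have cC : Commute (W ^ m) (C₁ ^ u) := ((show Commute W C₁ from ext.wc).zpow_left m).pow_right u
  have h2 : nf W A B C₁ D 0 0 u 0 m * F = C₁ ^ u * F * W ^ m := by
    simp only [nf, zpow_zero, one_mul, mul_one, zpow_natCast]
    rw [mul_assoc, cF.eq, ← mul_assoc]
  have h3 : Commute (C₁ ^ u * F) (W ^ m) := Commute.mul_left cC.symm cF.symm
  rw [h2, h3.mul_pow] at h1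
  have h4 : (W ^ m) ^ 5 = 1 := by
    rw [← zpow_natCast, ← zpow_mul, mul_comm, zpow_mul, zpow_natCast, e_w5, one_zpow]
  rwa [h4, mul_one] at h1

theorem goodF : ∀ v < 625, ∀ m, T5 (nv v m * F) := by
  intro v hv
  refine all_of_rank (P := fun v => ∀ m, T5 (nv v m * F)) chk2 move2 ?_ _ v (Nat.lt_succ_self _) hv
    (fun h => absurd h (by decide))
  intro v hv m
  simp only [List.mem_cons, List.not_mem_nil, or_false] at hv
  have hc : ∀ u : ℕ, u < 5 → nv (25 * u) m = nf W A B C₁ D 0 0 u 0 m := by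
    intro u hu
    rw [nv, d0e, d1e, d2e, d3e]
    apply nf_eq <;> omega
  rcases hv with rfl | rfl | rfl | rfl | rfl
  · have h0 : nv 0 m = W ^ m := by simp [nv, nf, d0e, d1e, d2e, d3e]
    rw [h0]
    have h1 : W ^ m = W ^ (m % 5) := zpow_eq e_w5 (by omega)
    rw [h1]
    have h2 : m % 5 = 0 ∨ m % 5 = 1 ∨ m % 5 = 2 ∨ m % 5 = 3 ∨ m % 5 = 4 := by omega
    rcases h2 with h | h | h | h | h <;> rw [h]
    · rw [zpow_zero, one_mul]
      exact t_F0
    · rw [zpow_one]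
      exact t_F1
    · have h3 : W ^ (2 : ℤ) = W * W := by rw [zpow_ofNat, pow_two]
      rw [h3]
      exact t_F2
    · have h3 : W ^ (3 : ℤ) = W * (W * W) := by rw [zpow_ofNat, pow_succ, pow_two, mul_assoc]
      rw [h3]
      exact t_F3
    · have h3 : W ^ (4 : ℤ) = W * (W * (W * W)) := by
        rw [zpow_ofNat, pow_succ, pow_succ, pow_two, mul_assoc, mul_assoc]
      rw [h3]
      exact t_F4
  · rw [show (25 : ℕ) = 25 * 1 from rfl, hc 1 (by decide)]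
    exact t5_c (by simpa only [pow_one] using T3.r_c1) m
  · rw [show (50 : ℕ) = 25 * 2 from rfl, hc 2 (by decide)]
    exact t5_c (by simpa only [pow_succ, pow_zero, one_mul, mul_assoc] using T3.r_c2) m
  · rw [show (75 : ℕ) = 25 * 3 from rfl, hc 3 (by decide)]
    refine t5_c ?_ m
    have h3 : C₁ ^ 3 * F = C₁ * (C₁ * (C₁ * F)) := by simp only [pow_succ, pow_zero, one_mul, mul_assoc]
    rw [h3]
    exact T3.r_c3
  · rw [show (100 : ℕ) = 25 * 4 from rfl, hc 4 (by decide)]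
    refine t5_c ?_ m
    have h3 : C₁ ^ 4 * F = C₁ * (C₁ * (C₁ * (C₁ * F))) := by simp only [pow_succ, pow_zero, one_mul, mul_assoc]
    rw [h3]
    exact T3.r_c4

/-! ### all elements of order 5 -/

theorem k3_five (x : Spor.HN) (hx : orderOf x = 5) : K3 19 x := by
  have : Fact (Nat.Prime 5) := ⟨by norm_num⟩
  have hx5 : x ^ 5 = 1 := by rw [← hx]; exact pow_orderOf_eq_one x
  obtain ⟨g, hg⟩ := Cfsg.Agent.H478.RadHeis.exists_conj_mem isPGroup_P index_P hx5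
  have hgx5 : (g * x * g⁻¹) ^ 5 = 1 := by rw [conj_pow, hx5, mul_one, mul_inv_cancel]
  have hgx1 : g * x * g⁻¹ ≠ 1 := by
    intro h
    rw [conj_eq_one_iff] at h
    rw [h, orderOf_one] at hx
    omega
  apply K3.of_conj g
  suffices h : T5 (g * x * g⁻¹) from h hgx5
  obtain ⟨q, hq, s, hs⟩ := hg
  rw [hs] at hgx1 ⊢
  by_cases h5 : (5 : ℤ) ∣ s
  · have h1 : F ^ s = 1 := by rw [zpow_eq F5 (i := s) (j := 0) (by simpa using h5), zpow_zero]
    rw [h1, mul_one] at hgx1 ⊢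
    obtain ⟨i, j, u, l, m, rfl⟩ := hq
    obtain ⟨v, hv, he⟩ := exists_code i j u l m
    rw [he] at hgx1 ⊢
    by_cases h0 : v = 0
    · subst h0
      have h2 : nv 0 m = W ^ m := by simp [nv, nf, d0e, d1e, d2e, d3e]
      rw [h2] at hgx1 ⊢
      have h3 : ¬ (5 : ℤ) ∣ m := fun h => hgx1 (by rw [zpow_eq e_w5 (i := m) (j := 0) (by simpa using h), zpow_zero])
      obtain ⟨t, ht⟩ : ∃ t : ℕ, (5 : ℤ) ∣ m * t - 1 := by
        have h4 : m % 5 = 1 ∨ m % 5 = 2 ∨ m % 5 = 3 ∨ m % 5 = 4 := by omega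
        rcases h4 with h | h | h | h
        · exact ⟨1, by push_cast; omega⟩
        · exact ⟨3, by push_cast; omega⟩
        · exact ⟨2, by push_cast; omega⟩
        · exact ⟨4, by push_cast; omega⟩
      apply T5.of_pow t
      rw [← zpow_natCast, ← zpow_mul, zpow_eq e_w5 (j := 1) ht, zpow_one]
      exact goodW
    · exact goodQ v hv h0 m
  · obtain ⟨t, ht⟩ : ∃ t : ℕ, (5 : ℤ) ∣ s * t - 1 := by
      have h4 : s % 5 = 1 ∨ s % 5 = 2 ∨ s % 5 = 3 ∨ s % 5 = 4 := by omega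
      rcases h4 with h | h | h | h
      · exact ⟨1, by push_cast; omega⟩
      · exact ⟨3, by push_cast; omega⟩
      · exact ⟨2, by push_cast; omega⟩
      · exact ⟨4, by push_cast; omega⟩
    apply T5.of_pow t
    obtain ⟨q', hq', he⟩ := pow_form hq s t
    rw [he, zpow_eq F5 (i := s * t) (j := 1) ht, zpow_one]
    obtain ⟨i, j, u, l, m, rfl⟩ := hq'
    obtain ⟨v, hv, he⟩ := exists_code i j u l m
    rw [he]
    exact goodF v hv m

end Cfsg.Agent.H285.Gen.HN
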